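import Mathlib
import Groth.Agent.S0021
import Groth.Agent.S0590
import Groth.Agent.S0591
import Groth.Agent.S9187
import Groth.Agent.S9207
import Groth.Agent.Lib.Helper12.PbDiag

/-!
# Chevalley's theorem for finite, finitely presented, surjective morphisms (no Noetherian
hypothesis)
-/

set_option autoImplicit false
universe u

open CategoryTheory Limits AlgebraicGeometry

namespace Groth.Agent.Lib.Helper28.Chev

open Groth.Agent.Lib.Helper12.PbDiag

/-- A quasi-compact scheme locally of finite type over `ℤ` is Noetherian. -/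
theorem isNoetherian_of_lft_int (T : Scheme.{u}) [CompactSpace T]
    [LocallyOfFiniteType (IsTerminal.from specULiftZIsTerminal T)] : IsNoetherian T := by
  haveI : IsNoetherianRing (ULift.{u} ℤ) := isNoetherianRing_of_ringEquiv ℤ ULift.ringEquiv.symm
  haveI : IsLocallyNoetherian T :=
    LocallyOfFiniteType.isLocallyNoetherian (IsTerminal.from specULiftZIsTerminal T)
  exact ⟨⟩

section Stage

variable {I : Type u} [SmallCategory I] [IsCofiltered I] (D : I ⥤ Scheme.{u}) (c : Cone D)
  (hc : IsLimit c) [∀ {i j : I} (f : i ⟶ j), IsAffineHom (D.map f)]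
  (i : I) {Xi X : Scheme.{u}} (fi : Xi ⟶ D.obj i) (g : X ⟶ Xi) (f : X ⟶ c.pt)
  (hpb : IsPullback g f fi (c.π.app i))

/-- Base change of the stage morphism along a transition map. -/
lemma isPullback_stage {j k : Over i} (a : j ⟶ k) :
    IsPullback ((pbDiagram D i fi).map a) (pullback.snd fi (D.map j.hom))
      (pullback.snd fi (D.map k.hom)) (D.map a.left) :=
  isPullback_pbDiagram_map D i fi a

include hc hpb in
/-- Surjectivity descends to a stage, for a finite stage morphism. -/
theorem exists_surjective_stage [∀ i, CompactSpace (D.obj i)] [∀ i, IsNoetherian (D.obj i)]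
    [Surjective f] (j : Over i) [IsFinite (pullback.snd fi (D.map j.hom))] :
    ∃ (k : Over i) (_ : k ⟶ j), Surjective (pullback.snd fi (D.map k.hom)) := by
  haveI : ∀ i, QuasiSeparatedSpace (D.obj i) := fun i => inferInstance
  obtain ⟨fj, hfj⟩ : ∃ fj : pullback fi (D.map j.hom) ⟶ D.obj j.left,
      fj = pullback.snd fi (D.map j.hom) := ⟨_, rfl⟩
  haveI : IsFinite fj := by rw [hfj]; infer_instance
  -- the open complement of the image
  have hcl : IsClosed (Set.range fj) := fj.isClosedMap.isClosed_range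
  let U : (D.obj j.left).Opens := ⟨(Set.range fj)ᶜ, hcl.isOpen_compl⟩
  have hU : IsCompact (U : Set (D.obj j.left)) := TopologicalSpace.NoetherianSpace.isCompact _
  haveI : CompactSpace (U : Scheme.{u}) := isCompact_iff_compactSpace.mp hU
  have hemp : IsEmpty ↥(pullback U.ι (c.π.app j.left)) := by
    constructor
    intro p
    have h1 : (pullback.fst U.ι (c.π.app j.left) ≫ U.ι) p ∈ U := by
      rw [Scheme.Hom.comp_apply]
      exact (pullback.fst U.ι (c.π.app j.left) p).2
    rw [pullback.condition, Scheme.Hom.comp_apply] at h1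
    obtain ⟨x, hx⟩ := f.surjective (pullback.snd U.ι (c.π.app j.left) p)
    apply h1
    have key : (pullback.snd fi (D.map j.hom)) ((pbCone c g f hpb).π.app j x) =
        (c.π.app j.left) (f x) :=
      congrArg (fun φ : X ⟶ D.obj j.left => φ x) (pbCone_π_snd c g f hpb j)
    refine ⟨(pbCone c g f hpb).π.app j x, ?_⟩
    rw [hfj, key, hx]
  obtain ⟨k₀, φ, hk⟩ := Groth.Agent.S9207.result D c hc j.left U.ι hemp
  refine ⟨Over.mk (φ ≫ j.hom), Over.homMk φ rfl, ⟨fun t => ?_⟩⟩
  -- the image of `t` lies in the image of `fj`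
  have ht : D.map φ t ∈ Set.range fj := by
    by_contra hnot
    obtain ⟨w, -, -⟩ := Scheme.Pullback.exists_preimage_pullback (f := U.ι) (g := D.map φ)
      (⟨D.map φ t, hnot⟩ : U) t rfl
    exact hk.false w
  obtain ⟨xj, hxj⟩ := ht
  have hsq := isPullback_stage D i fi (Over.homMk φ rfl : Over.mk (φ ≫ j.hom) ⟶ j)
  obtain ⟨w, hw1, hw2⟩ := Scheme.Pullback.exists_preimage_pullback
    (f := pullback.snd fi (D.map j.hom)) (g := D.map φ) xj t (by rw [← hfj]; exact hxj)
  have key2 : (pullback.snd fi (D.map (Over.mk (φ ≫ j.hom)).hom)) (hsq.isoPullback.inv w) =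
      (pullback.snd (pullback.snd fi (D.map j.hom)) (D.map φ)) w :=
    congrArg (fun ψ : pullback (pullback.snd fi (D.map j.hom)) (D.map φ) ⟶ D.obj k₀ => ψ w)
      hsq.isoPullback_inv_snd
  exact ⟨hsq.isoPullback.inv w, key2.trans hw2⟩

end Stage

/-- **Chevalley's theorem**, finitely presented case: the target of a finite, finitely presented,
surjective morphism from an affine scheme is affine. -/
theorem isAffine_of_finite_fp_surjective {X S : Scheme.{u}} (f : X ⟶ S) [IsAffine X] [IsFinite f]
    [LocallyOfFinitePresentation f] [Surjective f] [CompactSpace S] [QuasiSeparatedSpace S] :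
    IsAffine S := by
  obtain ⟨I, instP, instD, instN, D, c, hc, haff, hD, ⟨e⟩⟩ := Groth.Agent.S0590.result S
  haveI : ∀ {i j : Iᵒᵖ} (φ : i ⟶ j), IsAffineHom (D.map φ) := fun {i j} φ => haff i j φ
  haveI : ∀ i, CompactSpace (D.obj i) := fun i => (hD i).1
  haveI : ∀ i, IsNoetherian (D.obj i) := fun i => by
    haveI := (hD i).1
    haveI := (hD i).2
    exact isNoetherian_of_lft_int (D.obj i)
  haveI : ∀ i, QuasiSeparatedSpace (D.obj i) := fun i => inferInstance
  -- descend `f` to a stage
  obtain ⟨f', hf'⟩ : ∃ f' : X ⟶ c.pt, f' = f ≫ e.inv := ⟨_, rfl⟩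
  haveI : IsFinite f' := by rw [hf']; infer_instance
  haveI : LocallyOfFinitePresentation f' := by rw [hf']; infer_instance
  haveI : Surjective f' := by rw [hf']; infer_instance
  obtain ⟨i, Xi, fi, g, h1, h2, h3, hpb⟩ := Groth.Agent.S0591.result D c hc X f'
  haveI := h1
  haveI := h2
  haveI := h3
  haveI : CompactSpace Xi := QuasiCompact.compactSpace_of_compactSpace fi
  haveI : QuasiSeparatedSpace Xi := quasiSeparatedSpace_of_quasiSeparated fi
  -- finiteness at a stage
  obtain ⟨i₁, φ₁, X₁, Y₁, f₁, g₁, pY, pX, hY₁, hX₁, hfin⟩ :=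
    Groth.Agent.S9187.result D c hc i fi (𝟙 (D.obj i)) f' (𝟙 c.pt) (c.π.app i) g
      (IsPullback.of_vert_isIso ⟨by simp⟩) hpb
  have hj₁ : IsFinite (pullback.snd fi (D.map φ₁)) := by
    have H : IsPullback pX (f₁ ≫ g₁) fi (D.map φ₁) := by
      simpa using hX₁.paste_vert hY₁
    haveI : IsIso g₁ := hY₁.isIso_snd_of_isIso
    haveI := hfin
    rw [← H.isoPullback_inv_snd]
    infer_instance
  -- affineness at a stage
  haveI : ∀ j : Over i, CompactSpace ((pbDiagram D i fi).obj j) :=
    fun j => compactSpace_pbDiagram_obj D i fi j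
  haveI : ∀ j : Over i, QuasiSeparatedSpace ((pbDiagram D i fi).obj j) :=
    fun j => quasiSeparatedSpace_pbDiagram_obj D i fi j
  haveI : IsAffine (pbCone c g f' hpb).pt := inferInstanceAs (IsAffine X)
  obtain ⟨j₂, hj₂⟩ := Scheme.exists_isAffine_of_isLimit (pbDiagram D i fi) (pbCone c g f' hpb)
    (isLimitPbCone c hc g f' hpb)
  -- a common refinement
  obtain ⟨j₃, a₁, a₂, -⟩ : ∃ (j₃ : Over i) (_ : j₃ ⟶ Over.mk φ₁) (_ : j₃ ⟶ j₂), True :=
    ⟨IsCofiltered.min (Over.mk φ₁) j₂, IsCofiltered.minToLeft _ _, IsCofiltered.minToRight _ _,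
      trivial⟩
  haveI hfin₃ : IsFinite (pullback.snd fi (D.map j₃.hom)) :=
    MorphismProperty.of_isPullback (P := @IsFinite) (isPullback_stage D i fi a₁) hj₁
  haveI haff₃ : IsAffine ((pbDiagram D i fi).obj j₃) := by
    haveI : IsAffine ((pbDiagram D i fi).obj j₂) := hj₂
    exact isAffine_of_isAffineHom ((pbDiagram D i fi).map a₂)
  -- surjectivity at a stage
  obtain ⟨k, b, hsurj⟩ := exists_surjective_stage D c hc i fi g f' hpb j₃
  haveI := hsurj
  haveI : IsFinite (pullback.snd fi (D.map k.hom)) :=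
    MorphismProperty.of_isPullback (P := @IsFinite) (isPullback_stage D i fi b) hfin₃
  have haffk : IsAffine ((pbDiagram D i fi).obj k) :=
    isAffine_of_isAffineHom ((pbDiagram D i fi).map b)
  haveI : IsAffine (pullback fi (D.map k.hom)) := haffk
  -- conclude
  haveI : IsAffine (D.obj k.left) := Groth.Agent.S0021.result (pullback.snd fi (D.map k.hom))
  haveI : IsAffineHom (c.π.app k.left) := isAffineHom_π_app D c hc k.left
  haveI : IsAffine c.pt := isAffine_of_isAffineHom (c.π.app k.left)
  exact IsAffine.of_isIso e.inv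

end Groth.Agent.Lib.Helper28.Chev
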