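import Mathlib

/-!
# Separatedness descends along surjective universally closed morphisms
-/

set_option autoImplicit false
universe u

open CategoryTheory Limits AlgebraicGeometry

namespace Groth.Agent.Lib.Helper28.Chev

/-- If `f` is surjective and universally closed and `f ≫ g` is separated, then `g` is separated
(Stacks 09MQ). -/
theorem isSeparated_of_comp_of_surjective {X S T : Scheme.{u}} (f : X ⟶ S) (g : S ⟶ T)
    [Surjective f] [UniversallyClosed f] [IsSeparated (f ≫ g)] : IsSeparated g := by
  constructor
  apply IsClosedImmersion.of_isPreimmersion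
  obtain ⟨F, hF⟩ : ∃ F : pullback (f ≫ g) (f ≫ g) ⟶ pullback g g,
      F = pullback.map (f ≫ g) (f ≫ g) g g f f (𝟙 T) (by simp) (by simp) := ⟨_, rfl⟩
  have hFc : UniversallyClosed F := by
    rw [hF]
    exact MorphismProperty.pullbackMap (P := @UniversallyClosed) inferInstance inferInstance
      rfl rfl
  have hcomm : pullback.diagonal (f ≫ g) ≫ F = f ≫ pullback.diagonal g := by
    rw [hF]
    unfold pullback.map
    apply pullback.hom_ext
    · simp only [Category.assoc, pullback.lift_fst, pullback.diagonal_fst_assoc,
        pullback.diagonal_fst, Category.comp_id]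
    · simp only [Category.assoc, pullback.lift_snd, pullback.diagonal_snd_assoc,
        pullback.diagonal_snd, Category.comp_id]
  have hrange : Set.range (pullback.diagonal g) =
      F '' (Set.range (pullback.diagonal (f ≫ g))) := by
    ext p
    constructor
    · rintro ⟨s, rfl⟩
      obtain ⟨x, rfl⟩ := f.surjective s
      refine ⟨pullback.diagonal (f ≫ g) x, ⟨x, rfl⟩, ?_⟩
      rw [← Scheme.Hom.comp_apply, hcomm, Scheme.Hom.comp_apply]
    · rintro ⟨_, ⟨x, rfl⟩, rfl⟩
      refine ⟨f x, ?_⟩
      rw [← Scheme.Hom.comp_apply, ← hcomm, Scheme.Hom.comp_apply]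
  rw [hrange]
  exact F.isClosedMap _ (pullback.diagonal (f ≫ g)).isClosedEmbedding.isClosed_range

/-- The target of a surjective universally closed morphism from a separated scheme is
separated. -/
theorem isSeparated_of_surjective_universallyClosed {X S : Scheme.{u}} (f : X ⟶ S)
    [Surjective f] [UniversallyClosed f] [X.IsSeparated] : S.IsSeparated := by
  have : IsSeparated (f ≫ terminal.from S) := by
    rw [terminal.comp_from]; infer_instance
  exact ⟨isSeparated_of_comp_of_surjective f (terminal.from S)⟩

end Groth.Agent.Lib.Helper28.Chev
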