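import Mathlib
import Groth.Agent.S7382
import Groth.Agent.Lib.Helper28.Chev.FinFP
import Groth.Agent.Lib.Helper28.Chev.Sep

/-!
# Chevalley's theorem: the target of a surjective universally closed morphism from an affine
scheme is affine (Stacks 05YU), without Noetherian hypotheses.
-/

set_option autoImplicit false
universe u

open CategoryTheory Limits AlgebraicGeometry

namespace Groth.Agent.Lib.Helper28.Chev

/-- Chevalley's theorem for integral surjective morphisms. -/
theorem isAffine_of_integral_surjective {X S : Scheme.{u}} (f : X ⟶ S) [IsAffine X]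
    [IsIntegralHom f] [Surjective f] [CompactSpace S] [QuasiSeparatedSpace S] : IsAffine S := by
  obtain ⟨I, instP, instD, instN, D, c, hc, hD, ⟨e⟩⟩ := Groth.Agent.S7382.result f
  -- pass to the underlying diagram of schemes
  let D' : Iᵒᵖ ⥤ Scheme.{u} := D ⋙ Over.forget S
  let c' : Cone D' := (Over.forget S).mapCone c
  have hc' : IsLimit c' := isLimitOfPreserves (Over.forget S) hc
  haveI : ∀ i, IsFinite (D.obj i).hom := fun i => (hD i).1
  haveI : ∀ i, LocallyOfFinitePresentation (D.obj i).hom := fun i => (hD i).2
  haveI : ∀ {i j : Iᵒᵖ} (φ : i ⟶ j), IsAffineHom (D'.map φ) := fun {i j} φ => by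
    have h : (D.map φ).left ≫ (D.obj j).hom = (D.obj i).hom := Over.w (D.map φ)
    haveI : IsAffineHom ((D.map φ).left ≫ (D.obj j).hom) := by rw [h]; infer_instance
    exact IsAffineHom.of_comp (D.map φ).left (D.obj j).hom
  have hcpt : ∀ i, CompactSpace (D.obj i).left := fun i =>
    QuasiCompact.compactSpace_of_compactSpace (D.obj i).hom
  have hqs : ∀ i, QuasiSeparatedSpace (D.obj i).left := fun i =>
    quasiSeparatedSpace_of_quasiSeparated (D.obj i).hom
  haveI : ∀ i, CompactSpace (D'.obj i) := hcpt
  haveI : ∀ i, QuasiSeparatedSpace (D'.obj i) := hqs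
  haveI : IsAffine c'.pt := by
    have e' : c'.pt ≅ X := (Over.forget S).mapIso e
    exact IsAffine.of_isIso e'.hom
  obtain ⟨i, hi⟩ := Scheme.exists_isAffine_of_isLimit D' c' hc'
  haveI : IsAffine (D.obj i).left := hi
  haveI : Surjective (D.obj i).hom := by
    have h1 : (c.π.app i).left ≫ (D.obj i).hom = c.pt.hom := Over.w (c.π.app i)
    have h2 : e.inv.left ≫ c.pt.hom = f := Over.w e.inv
    haveI : Surjective ((e.inv.left ≫ (c.π.app i).left) ≫ (D.obj i).hom) := by
      rw [Category.assoc, h1, h2]; infer_instance
    exact Surjective.of_comp (e.inv.left ≫ (c.π.app i).left) (D.obj i).hom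
  exact isAffine_of_finite_fp_surjective (D.obj i).hom

/-- **Chevalley's theorem** (Stacks 05YU): if `f : X ⟶ S` is surjective and universally closed and
`X` is affine, then `S` is affine. -/
theorem isAffine_of_surjective_universallyClosed {X S : Scheme.{u}} (f : X ⟶ S) [IsAffine X]
    [Surjective f] [UniversallyClosed f] : IsAffine S := by
  haveI : CompactSpace S := by
    constructor
    rw [← Set.range_eq_univ.mpr f.surjective]
    exact isCompact_range f.continuous
  haveI : S.IsSeparated := isSeparated_of_surjective_universallyClosed f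
  haveI : IsAffineHom f := by
    haveI : IsAffineHom (f ≫ terminal.from S) := by
      rw [terminal.comp_from]; infer_instance
    exact IsAffineHom.of_comp f (terminal.from S)
  haveI : IsIntegralHom f :=
    IsIntegralHom.iff_universallyClosed_and_isAffineHom.mpr ⟨inferInstance, inferInstance⟩
  exact isAffine_of_integral_surjective f

end Groth.Agent.Lib.Helper28.Chev
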