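import Mathlib
import Groth.Agent.Lib.Helper28.Chev.Main

/-!
# Relative version of Chevalley's theorem, and integrality of scheme-theoretic images
-/

set_option autoImplicit false
universe u

open CategoryTheory Limits AlgebraicGeometry

namespace Groth.Agent.Lib.Helper28.Chev

/-- Relative form of Chevalley's theorem: if `p : X ⟶ Y` is surjective and universally closed and
`p ≫ h` is affine, then `h` is affine. -/
theorem isAffineHom_of_comp_surjective_universallyClosed {X Y S : Scheme.{u}} (p : X ⟶ Y)
    (h : Y ⟶ S) [Surjective p] [UniversallyClosed p] [IsAffineHom (p ≫ h)] : IsAffineHom h := by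
  constructor
  intro U hU
  have h1 : IsAffineOpen ((p ≫ h) ⁻¹ᵁ U) := hU.preimage (p ≫ h)
  have h2 : (p ≫ h) ⁻¹ᵁ U = p ⁻¹ᵁ (h ⁻¹ᵁ U) := rfl
  rw [h2] at h1
  haveI : IsAffine ↑(p ⁻¹ᵁ (h ⁻¹ᵁ U)) := h1
  haveI : Surjective (p ∣_ (h ⁻¹ᵁ U)) :=
    IsZariskiLocalAtTarget.restrict (P := @Surjective) inferInstance _
  haveI : UniversallyClosed (p ∣_ (h ⁻¹ᵁ U)) :=
    IsZariskiLocalAtTarget.restrict (P := @UniversallyClosed) inferInstance _
  exact isAffine_of_surjective_universallyClosed (p ∣_ (h ⁻¹ᵁ U))

/-- If `p` is surjective and `p ≫ h` is integral and `p` is universally closed, `h` is integral. -/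
theorem isIntegralHom_of_comp_surjective {X Y S : Scheme.{u}} (p : X ⟶ Y)
    (h : Y ⟶ S) [Surjective p] [UniversallyClosed p] [IsIntegralHom (p ≫ h)] :
    IsIntegralHom h := by
  haveI : IsAffineHom h := isAffineHom_of_comp_surjective_universallyClosed p h
  haveI : UniversallyClosed h := UniversallyClosed.of_comp_surjective p h
  exact IsIntegralHom.iff_universallyClosed_and_isAffineHom.mpr ⟨inferInstance, inferInstance⟩

/-- The map to the scheme-theoretic image of an integral morphism is surjective. -/
theorem toImage_surjective_of_isIntegralHom {X Y : Scheme.{u}} (f : X ⟶ Y) [IsIntegralHom f] :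
    Function.Surjective f.toImage := by
  haveI : IsIntegralHom (f.toImage ≫ f.imageι) := by rw [f.toImage_imageι]; infer_instance
  haveI : IsIntegralHom f.toImage := IsIntegralHom.of_comp f.toImage f.imageι
  have hcl : IsClosed (Set.range f.toImage) := f.toImage.isClosedMap.isClosed_range
  have hd : DenseRange f.toImage := f.toImage.denseRange
  rw [← Set.range_eq_univ, ← hcl.closure_eq]
  exact hd.closure_range

end Groth.Agent.Lib.Helper28.Chev
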