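import Mathlib
import Groth.Prelude.Def_Grpd
import Groth.Agent.Lib.Helper28.Chev.Main

/-!
# Invariant affine opens for integral restrictions of groupoid schemes
-/

set_option autoImplicit false
universe u

open CategoryTheory Limits AlgebraicGeometry

namespace Groth.Agent.Lib.Helper28.Chev

variable {S : Scheme.{u}} (G : Grpd.GroupoidScheme S) {U' : Scheme.{u}} (g : U' ⟶ G.U)

/-- `h = s ∘ pr₁ : U' ×_{g,U,t} R ⟶ U`. -/
noncomputable abbrev hMap : pullback g G.t ⟶ G.U := pullback.snd g G.t ≫ G.s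

lemma exists_point_restriction (x y : ↥(pullback g G.t)) (hxy : hMap G g x = hMap G g y) :
    ∃ z : ↥(pullback (hMap G g) g),
      (pullback.fst (hMap G g) g ≫ pullback.fst g G.t) z = pullback.fst g G.t x ∧
      (pullback.snd (hMap G g) g) z = pullback.fst g G.t y := by
  obtain ⟨w, hw1, hw2⟩ := Scheme.Pullback.exists_preimage_pullback (f := hMap G g)
    (g := hMap G g) x y hxy
  obtain ⟨a, ha⟩ : ∃ a : pullback (hMap G g) (hMap G g) ⟶ pullback g G.t,
      a = pullback.fst (hMap G g) (hMap G g) := ⟨_, rfl⟩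
  obtain ⟨b, hb⟩ : ∃ b : pullback (hMap G g) (hMap G g) ⟶ pullback g G.t,
      b = pullback.snd (hMap G g) (hMap G g) := ⟨_, rfl⟩
  rw [← ha] at hw1
  rw [← hb] at hw2
  have hab : a ≫ pullback.snd g G.t ≫ G.s = b ≫ pullback.snd g G.t ≫ G.s := by
    rw [ha, hb]; exact pullback.condition
  have hαβ : (a ≫ pullback.snd g G.t) ≫ G.s = (b ≫ pullback.snd g G.t ≫ G.i) ≫ G.t := by
    simp only [Category.assoc, G.i_t]
    exact hab
  obtain ⟨γ, hγ⟩ : ∃ γ : pullback (hMap G g) (hMap G g) ⟶ G.R,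
      γ = pullback.lift (a ≫ pullback.snd g G.t) (b ≫ pullback.snd g G.t ≫ G.i) hαβ ≫ G.c :=
    ⟨_, rfl⟩
  have hγt : γ ≫ G.t = (a ≫ pullback.fst g G.t) ≫ g := by
    rw [hγ, G.comp_t _ _ hαβ]
    simp only [Category.assoc, pullback.condition]
  have hγs : γ ≫ G.s = (b ≫ pullback.fst g G.t) ≫ g := by
    rw [hγ, G.comp_s _ _ hαβ]
    simp only [Category.assoc, G.i_s, pullback.condition]
  obtain ⟨ρ, hρ⟩ : ∃ ρ : pullback (hMap G g) (hMap G g) ⟶ pullback g G.t,
      ρ = pullback.lift (a ≫ pullback.fst g G.t) γ hγt.symm := ⟨_, rfl⟩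
  have hρ1 : ρ ≫ pullback.fst g G.t = a ≫ pullback.fst g G.t := by
    rw [hρ, pullback.lift_fst]
  have hρ2 : ρ ≫ hMap G g = (b ≫ pullback.fst g G.t) ≫ g := by
    rw [hρ, pullback.lift_snd_assoc]; exact hγs
  refine ⟨(pullback.lift ρ (b ≫ pullback.fst g G.t) hρ2 :
    pullback (hMap G g) (hMap G g) ⟶ pullback (hMap G g) g) w, ?_, ?_⟩
  · rw [← Scheme.Hom.comp_apply, pullback.lift_fst_assoc, hρ1, Scheme.Hom.comp_apply, hw1]
  · rw [← Scheme.Hom.comp_apply, pullback.lift_snd, Scheme.Hom.comp_apply, hw2]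

lemma exists_point_translate (y : ↥(pullback g G.t)) (r : G.R) (hyr : hMap G g y = G.s r) :
    ∃ y' : ↥(pullback g G.t), pullback.fst g G.t y' = pullback.fst g G.t y ∧
      hMap G g y' = G.t r := by
  obtain ⟨w, hw1, hw2⟩ := Scheme.Pullback.exists_preimage_pullback (f := hMap G g)
    (g := G.s) y r hyr
  obtain ⟨a, ha⟩ : ∃ a : pullback (hMap G g) G.s ⟶ pullback g G.t,
      a = pullback.fst (hMap G g) G.s := ⟨_, rfl⟩
  obtain ⟨b, hb⟩ : ∃ b : pullback (hMap G g) G.s ⟶ G.R,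
      b = pullback.snd (hMap G g) G.s := ⟨_, rfl⟩
  rw [← ha] at hw1
  rw [← hb] at hw2
  have hab : a ≫ pullback.snd g G.t ≫ G.s = b ≫ G.s := by
    rw [ha, hb]; exact pullback.condition
  have hαβ : (a ≫ pullback.snd g G.t) ≫ G.s = (b ≫ G.i) ≫ G.t := by
    simp only [Category.assoc, G.i_t]
    exact hab
  obtain ⟨γ, hγ⟩ : ∃ γ : pullback (hMap G g) G.s ⟶ G.R,
      γ = pullback.lift (a ≫ pullback.snd g G.t) (b ≫ G.i) hαβ ≫ G.c :=
    ⟨_, rfl⟩
  have hγt : γ ≫ G.t = (a ≫ pullback.fst g G.t) ≫ g := by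
    rw [hγ, G.comp_t _ _ hαβ]
    simp only [Category.assoc, pullback.condition]
  have hγs : γ ≫ G.s = b ≫ G.t := by
    rw [hγ, G.comp_s _ _ hαβ]
    simp only [Category.assoc, G.i_s]
  refine ⟨(pullback.lift (a ≫ pullback.fst g G.t) γ hγt.symm :
    pullback (hMap G g) G.s ⟶ pullback g G.t) w, ?_, ?_⟩
  · rw [← Scheme.Hom.comp_apply, pullback.lift_fst, Scheme.Hom.comp_apply, hw1]
  · rw [← Scheme.Hom.comp_apply, pullback.lift_snd_assoc, hγs, Scheme.Hom.comp_apply, hw2]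

/-- Stacks 0ABA-type lemma: an invariant affine open of the restriction of a groupoid with integral
source and target along an integral morphism meeting every orbit gives an invariant affine open
downstairs. -/
theorem exists_invariant_affine [IsIntegralHom G.s] [IsIntegralHom G.t] [IsIntegralHom g]
    (horb : ∀ u : G.U, ∃ r : G.R, G.s r = u ∧ G.t r ∈ Set.range ⇑g) (u' : U') (W' : U'.Opens)
    (hW' : IsAffineOpen W') (hu' : u' ∈ W')
    (hinv : (pullback.fst (hMap G g) g ≫ pullback.fst g G.t) ⁻¹ᵁ W' =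
      (pullback.snd (hMap G g) g) ⁻¹ᵁ W') :
    ∃ W : G.U.Opens, IsAffineOpen W ∧ g u' ∈ W ∧ G.s ⁻¹ᵁ W = G.t ⁻¹ᵁ W := by
  haveI : IsIntegralHom (pullback.fst g G.t) := MorphismProperty.pullback_fst _ _ inferInstance
  haveI : IsIntegralHom (pullback.snd g G.t) := MorphismProperty.pullback_snd _ _ inferInstance
  haveI : IsIntegralHom (hMap G g) := inferInstance
  obtain ⟨Wt, hWtdef⟩ : ∃ Wt : (pullback g G.t).Opens, Wt = pullback.fst g G.t ⁻¹ᵁ W' := ⟨_, rfl⟩
  have hmemWt : ∀ x, x ∈ Wt ↔ pullback.fst g G.t x ∈ W' := fun x => by rw [hWtdef]; rfl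
  have hWt : IsAffineOpen Wt := by rw [hWtdef]; exact hW'.preimage (pullback.fst g G.t)
  -- the key saturation property
  have key : ∀ x y, hMap G g x = hMap G g y → pullback.fst g G.t y ∈ W' →
      pullback.fst g G.t x ∈ W' := by
    intro x y hxy hy
    obtain ⟨z, hz1, hz2⟩ := exists_point_restriction G g x y hxy
    have hz : z ∈ (pullback.fst (hMap G g) g ≫ pullback.fst g G.t) ⁻¹ᵁ W' := by
      rw [hinv]
      show (pullback.snd (hMap G g) g) z ∈ W'
      rw [hz2]; exact hy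
    have hz' : (pullback.fst (hMap G g) g ≫ pullback.fst g G.t) z ∈ W' := hz
    rwa [hz1] at hz'
  have hsurj : Function.Surjective (hMap G g) := by
    intro u
    obtain ⟨r, hr, u'', hu''⟩ := horb u
    obtain ⟨w, hw1, hw2⟩ := Scheme.Pullback.exists_preimage_pullback (f := g) (g := G.t) u'' r hu''
    refine ⟨w, ?_⟩
    rw [Scheme.Hom.comp_apply, hw2, hr]
  have hquot : Topology.IsQuotientMap (hMap G g) :=
    (hMap G g).isClosedMap.isQuotientMap (hMap G g).continuous hsurj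
  have hpre : (hMap G g) ⁻¹' ((hMap G g) '' (Wt : Set ↥(pullback g G.t))) = Wt := by
    ext x
    constructor
    · rintro ⟨y, hy, hyx⟩
      exact (hmemWt x).mpr (key x y hyx.symm ((hmemWt y).mp hy))
    · intro hx
      exact ⟨x, hx, rfl⟩
  have hopen : IsOpen ((hMap G g) '' (Wt : Set ↥(pullback g G.t))) := by
    rw [← hquot.isOpen_preimage, hpre]
    exact Wt.isOpen
  obtain ⟨W, hWdef⟩ : ∃ W : G.U.Opens, (W : Set G.U) = (hMap G g) '' (Wt : Set ↥(pullback g G.t)) :=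
    ⟨⟨_, hopen⟩, rfl⟩
  have hmemW : ∀ u, u ∈ W ↔ ∃ y, pullback.fst g G.t y ∈ W' ∧ hMap G g y = u := by
    intro u
    rw [← SetLike.mem_coe, hWdef]
    constructor
    · rintro ⟨y, hy, rfl⟩; exact ⟨y, (hmemWt y).mp hy, rfl⟩
    · rintro ⟨y, hy, rfl⟩; exact ⟨y, (hmemWt y).mpr hy, rfl⟩
  have hWpre : (hMap G g) ⁻¹ᵁ W = Wt := by
    apply TopologicalSpace.Opens.ext
    rw [← hpre, ← hWdef]
    rfl
  refine ⟨W, ?_, ?_, ?_⟩
  · -- affineness, by Chevalley's theorem
    haveI : IsAffine ↑((hMap G g) ⁻¹ᵁ W) := by rw [hWpre]; exact hWt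
    haveI : Surjective (hMap G g) := ⟨hsurj⟩
    haveI : Surjective ((hMap G g) ∣_ W) :=
      IsZariskiLocalAtTarget.restrict (P := @Surjective) inferInstance _
    haveI : UniversallyClosed ((hMap G g) ∣_ W) :=
      IsZariskiLocalAtTarget.restrict (P := @UniversallyClosed) inferInstance _
    exact isAffine_of_surjective_universallyClosed ((hMap G g) ∣_ W)
  · -- `g u' ∈ W`
    have h0 : g u' = G.t (G.e (g u')) := by
      rw [← Scheme.Hom.comp_apply, G.e_t]; rfl
    obtain ⟨w, hw1, hw2⟩ := Scheme.Pullback.exists_preimage_pullback (f := g) (g := G.t) u'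
      (G.e (g u')) h0
    refine (hmemW _).mpr ⟨w, by rw [hw1]; exact hu', ?_⟩
    rw [Scheme.Hom.comp_apply, hw2, ← Scheme.Hom.comp_apply, G.e_s]; rfl
  · -- invariance
    have one : ∀ r : G.R, G.s r ∈ W → G.t r ∈ W := by
      intro r hr
      obtain ⟨y, hy, hyr⟩ := (hmemW _).mp hr
      obtain ⟨y', hy'1, hy'2⟩ := exists_point_translate G g y r hyr
      exact (hmemW _).mpr ⟨y', by rw [hy'1]; exact hy, hy'2⟩
    apply TopologicalSpace.Opens.ext
    ext r
    constructor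
    · exact one r
    · intro hr
      have h1 : G.s (G.i r) ∈ W := by
        rw [← Scheme.Hom.comp_apply, G.i_s]; exact hr
      have h2 := one (G.i r) h1
      rwa [← Scheme.Hom.comp_apply, G.i_t] at h2

end Groth.Agent.Lib.Helper28.Chev
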